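import Groth.Agent.PicProjLib.Pic
import Groth.Agent.BirkhoffFact.Basic
import Mathlib.Algebra.Polynomial.Laurent
/-!
Laurent polynomials inside the function field of the projective line.
-/

set_option autoImplicit false
set_option backward.isDefEq.respectTransparency false
set_option linter.style.haveILetI false

universe u

open CategoryTheory AlgebraicGeometry TopologicalSpace
open Groth.Agent.AmpleEmb Groth.Agent.PicProjLib Groth.Agent.HorrocksLib
open scoped LaurentPolynomial

noncomputable section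

namespace Groth.Agent.SplitP1Lib

variable {k : Type u} [Field k]

local notation "P" => CohB1.ProjSpace 1 k
local notation "K" => Scheme.functionField (CohB1.ProjSpace 1 k)

/-- One variable. -/
def oneVar : Polynomial k ≃+* MvPolynomial (Fin 1) k :=
  RingEquiv.ofRingHom (Polynomial.eval₂RingHom MvPolynomial.C (MvPolynomial.X 0))
    (MvPolynomial.eval₂Hom Polynomial.C fun _ => Polynomial.X)
    (MvPolynomial.ringHom_ext (fun r => by simp) (fun i => by
      obtain rfl : i = 0 := Subsingleton.elim i 0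
      simp))
    (Polynomial.ringHom_ext (fun r => by simp) (by simp))

/-- The chart maps into the function field. -/
def φp (i : Fin 2) : Polynomial k →+* K := (φ 1 k i).comp (oneVar (k := k)).toRingHom

theorem φp_C (i : Fin 2) (c : k) : φp i (Polynomial.C c) = φ 1 k 0 (MvPolynomial.C c) := by
  simp only [φp, RingHom.comp_apply, oneVar]
  rw [show φ 1 k 0 (MvPolynomial.C c) = φ 1 k i (MvPolynomial.C c) from φ_C 1 k 0 i c]
  simp

theorem φp_X (i : Fin 2) : φp (k := k) i Polynomial.X = t 1 k i (i.succAbove 0) := by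
  rw [← φ_X]
  simp [φp, oneVar]

/-- The coordinate in the function field, as a unit. -/
def tU : (K)ˣ := Units.mk0 (t 1 k 0 1) (t_ne_zero 1 k 0 1)

/-- Laurent polynomials in the function field. -/
def lam : k[T;T⁻¹] →+* K :=
  LaurentPolynomial.eval₂ ((φ 1 k 0).comp MvPolynomial.C) tU

theorem lam_T (d : ℤ) : lam (k := k) (LaurentPolynomial.T d) = t 1 k 0 1 ^ d := by
  rw [lam, LaurentPolynomial.eval₂_T, Units.val_zpow_eq_zpow_val]
  rfl

theorem lam_chart0 (p : Polynomial k) : lam (chart0 p) = φp 0 p := by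
  suffices h : (lam (k := k)).comp chart0 = φp 0 from RingHom.congr_fun h p
  refine Polynomial.ringHom_ext (fun c => ?_) ?_
  · rw [RingHom.comp_apply, φp_C, lam, LaurentPolynomial.eval₂_toLaurent, Polynomial.eval₂_C]
    rfl
  · rw [RingHom.comp_apply, φp_X, lam, LaurentPolynomial.eval₂_toLaurent, Polynomial.eval₂_X]
    rfl

theorem lam_chart1 (p : Polynomial k) : lam (chart1 p) = φp 1 p := by
  suffices h : (lam (k := k)).comp chart1 = φp 1 from RingHom.congr_fun h p
  refine Polynomial.ringHom_ext (fun c => ?_) ?_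
  · rw [RingHom.comp_apply, chart1_C, lam_chart0, φp_C, φp_C]
  · rw [RingHom.comp_apply, φp_X, chart1_apply, Polynomial.toLaurent_X, LaurentPolynomial.invert_T, lam_T, zpow_neg,
      zpow_one]
    refine (eq_inv_of_mul_eq_one_left ?_).symm
    rw [show (1 : Fin 2).succAbove 0 = 0 from rfl, t_mul, t_self]

theorem φp_injective (i : Fin 2) : Function.Injective (φp (k := k) i) :=
  (φ_injective 1 k i).comp (oneVar (k := k)).injective

theorem lam_injective : Function.Injective (lam (k := k)) := by
  rw [injective_iff_map_eq_zero]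
  intro y hy
  obtain ⟨n, p, hp⟩ := LaurentPolynomial.exists_T_pow y
  have h : φp 0 p = 0 := by rw [← lam_chart0, show (chart0 p : k[T;T⁻¹]) = y * LaurentPolynomial.T n from hp, map_mul, hy, zero_mul]
  rw [φp_injective 0 (h.trans (map_zero _).symm)] at hp
  exact ((LaurentPolynomial.isUnit_T (R := k) n).mul_left_eq_zero).1 ((map_zero Polynomial.toLaurent).symm.trans hp).symm

/-- Sections on a chart from one-variable polynomials. -/
def secP (i : Fin 2) : Polynomial k →+* Γ(P, stdOpen 1 k i) :=
  (chartEquiv 1 k i).toRingHom.comp (oneVar (k := k)).toRingHom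

theorem germ_secP (i : Fin 2) (p : Polynomial k) :
    (P).presheaf.germ (stdOpen 1 k i) (gen 1 k) (gen_mem 1 k) (secP i p) = φp i p := rfl

theorem secP_surjective (i : Fin 2) : Function.Surjective (secP (k := k) i) :=
  (chartEquiv 1 k i).surjective.comp (oneVar (k := k)).surjective

instance isPrincipalIdealRing_stdOpen (i : Fin 2) : IsPrincipalIdealRing Γ(P, stdOpen 1 k i) :=
  IsPrincipalIdealRing.of_surjective (secP i) (secP_surjective i)

instance isDomain_stdOpen (i : Fin 2) : IsDomain Γ(P, stdOpen 1 k i) :=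
  (chartEquiv 1 k i).symm.toMulEquiv.isDomain (MvPolynomial (Fin 1) k)

/-- Functions on the overlap are Laurent polynomials. -/
theorem exists_lam_eq (u : Γ(P, stdOpen 1 k 0 ⊓ stdOpen 1 k 1)) :
    ∃ y : k[T;T⁻¹], (P).presheaf.germ (stdOpen 1 k 0 ⊓ stdOpen 1 k 1) (gen 1 k) ⟨gen_mem 1 k, gen_mem 1 k⟩ u = lam y := by
  haveI : Nonempty (stdOpen 1 k 0 ⊓ stdOpen 1 k 1 : (P).Opens) := ⟨⟨gen 1 k, gen_mem 1 k, gen_mem 1 k⟩⟩
  obtain ⟨N, a, ha⟩ := exists_res_mul_pow 1 k 0 1 (W := stdOpen 1 k 0 ⊓ stdOpen 1 k 1) rfl u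
  obtain ⟨p, rfl⟩ := (oneVar (k := k)).surjective a
  refine ⟨chart0 p * LaurentPolynomial.T (-(N : ℤ)), ?_⟩
  rw [map_mul, lam_chart0, lam_T, zpow_neg, zpow_natCast, eq_mul_inv_iff_mul_eq₀ (pow_ne_zero _ (t_ne_zero 1 k 0 1))]
  exact ha

/-- Exponents of a change between the two charts. -/
theorem eq_zero_of_φp_eq (p q : Polynomial k) {a b : ℤ} (hab : b < a)
    (h : t 1 k 0 1 ^ a * φp 0 p = φp 1 q * t 1 k 0 1 ^ b) : p = 0 := by
  have h1 : (chart1 q * LaurentPolynomial.T b : k[T;T⁻¹]) = LaurentPolynomial.T a * chart0 p := lam_injective (by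
    rw [map_mul, map_mul, lam_T, lam_T, lam_chart0, lam_chart1, h])
  obtain ⟨m, rfl⟩ : ∃ m : ℕ, a = b + (m + 1 : ℕ) := ⟨(a - b - 1).toNat, by omega⟩
  rw [mul_comm, LaurentPolynomial.T_add, mul_assoc] at h1
  have h2 := (LaurentPolynomial.isUnit_T (R := k) b).mul_left_cancel h1
  rw [← Polynomial.toLaurent_X_pow, ← map_mul] at h2
  have hq := BirkhoffFact.eq_zero_of_c1_eq q p m h2
  rw [hq, map_zero] at h2
  have := chart0_injective (h2.symm.trans (map_zero _).symm)
  exact (mul_eq_zero.1 this).resolve_left (pow_ne_zero _ Polynomial.X_ne_zero)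

end Groth.Agent.SplitP1Lib
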