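import Groth.Agent.SplitP1Lib.Frames
import Groth.Agent.SplitP1Lib.Ratio
/-!
Splitting of locally free modules on the projective line.
-/

set_option autoImplicit false
set_option backward.isDefEq.respectTransparency false
set_option linter.style.haveILetI false

universe u

open CategoryTheory CategoryTheory.Limits AlgebraicGeometry TopologicalSpace
open Groth.Agent.AmpleEmb Groth.Agent.PicProjLib Groth.Agent.HorrocksLib Groth.Agent.PullbackMod Groth.Agent.ParaFLib
open scoped LaurentPolynomial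

noncomputable section

namespace Groth.Agent.SplitP1Lib

open DegDevLib (IsFrame)

variable {k : Type u} [Field k]

local notation "P" => CohB1.ProjSpace 1 k
local notation "U₀" => stdOpen 1 k (0 : Fin 2)
local notation "U₁" => stdOpen 1 k (1 : Fin 2)
local notation "W" => stdOpen 1 k (0 : Fin 2) ⊓ stdOpen 1 k (1 : Fin 2)

/-- The germ at the generic point. -/
def γg {E : (P).Modules} {U : (P).Opens} (hU : gen 1 k ∈ U) (s : Γ(E, U)) : E.presheaf.stalk (gen 1 k) :=
  E.presheaf.germ U (gen 1 k) hU s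

theorem gen_mem_W : gen 1 k ∈ W := ⟨gen_mem 1 k, gen_mem 1 k⟩

/-- Frames on the two charts differing by powers of the coordinate. -/
def Adapted {r : ℕ} (E : (P).Modules) (d : Fin r → ℤ) : Prop :=
  ∃ (f₀ : Fin r → Γ(E, U₀)) (f₁ : Fin r → Γ(E, U₁)), IsFrame U₀ f₀ ∧ IsFrame U₁ f₁ ∧
    ∀ a, γg (gen_mem 1 k) (f₁ a) = t 1 k 0 1 ^ d a • γg (gen_mem 1 k) (f₀ a)

theorem Adapted.of_iso {r : ℕ} {E F : (P).Modules} {d : Fin r → ℤ} (h : Adapted E d) (φ : E ≅ F) : Adapted F d := by
  obtain ⟨f₀, f₁, h₀, h₁, he⟩ := h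
  refine ⟨_, _, IsFrame.of_iso h₀ φ, IsFrame.of_iso h₁ φ, fun a => ?_⟩
  simp only [γg, ← stalkLin_germ φ.hom]
  rw [← map_smul]
  exact congrArg (stalkLin φ.hom (gen 1 k)) (he a)

theorem adapted_sigma {r : ℕ} (d : Fin r → ℤ) :
    Adapted (∐ fun a : Fin r => Twist.twistProjSpace 1 k (d a)) d := by
  classical
  choose g hg hc using fun a => hasDeg_twist (n := 1) (R := k) one_ne_zero (d a)
  choose r' hr using fun a => hc a (1 : Fin 2)
  let c : Fin r → Γ(P, U₁) := fun a => chartEquiv 1 k 1 (MvPolynomial.C ((r' a : kˣ) : k))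
  have hcu : ∀ a, IsUnit (c a) := fun a => ((r' a).isUnit.map MvPolynomial.C).map (chartEquiv 1 k 1)
  let L : Fin r → (P).Modules := fun a => Twist.twistProjSpace 1 k (d a)
  refine ⟨fun a => (Sigma.ι L a).app U₀ (g a 0), fun a => (Sigma.ι L a).app U₁ (c a • g a 1),
    isFrame_sigma L _ (fun a => hg a 0), isFrame_sigma L _ (fun a => (hg a 1).smul (hcu a)), fun a => ?_⟩
  refine (stalkLin_germ (Sigma.ι L a) (gen 1 k) (gen_mem 1 k) (c a • g a 1)).symm.trans (Eq.trans ?_
    ((map_smul (stalkLin (Sigma.ι L a) (gen 1 k)) (t 1 k 0 1 ^ d a) _).trans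
      (congrArg (t 1 k 0 1 ^ d a • ·) (stalkLin_germ (Sigma.ι L a) (gen 1 k) (gen_mem 1 k) (g a 0)))))
  refine congrArg (stalkLin (Sigma.ι L a) (gen 1 k)) ?_
  have h1 : (L a).presheaf.germ U₁ (gen 1 k) (gen_mem 1 k) (c a • g a 1) = cst 1 k (r' a) • γ (g a 1) := by
    rw [cst, φ_C 1 k 0 1]
    exact germ_smul' _ _ _ _
  rw [h1]
  show cst 1 k (r' a) • γ (g a 1) = t 1 k 0 1 ^ d a • γ (g a 0)
  rw [hr a, smul_smul, mul_left_comm, ← mul_zpow, t_mul, t_self, one_zpow, _root_.mul_one]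

theorem linComb_germ {r : ℕ} {E : (P).Modules} {U : (P).Opens} (hU : gen 1 k ∈ U) (c : Fin r → Γ(P, U))
    (f : Fin r → Γ(E, U)) :
    γg hU (∑ b, c b • f b) = ∑ b, (P).presheaf.germ U (gen 1 k) hU (c b) • γg hU (f b) :=
  germ_lincomb hU c f

/-- Equality of coefficient rows in the generic stalk. -/
theorem coeff_eq {r : ℕ} {E : (P).Modules} {U : (P).Opens} {hU : gen 1 k ∈ U} {f : Fin r → Γ(E, U)} (hf : IsFrame U f)
    {x y : Fin r → (P).functionField}
    (h : (∑ b, x b • γg hU (f b)) = ∑ b, y b • γg hU (f b)) : x = y := by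
  refine (hf (gen 1 k) hU).1 ?_
  simp only [Fintype.linearCombination_apply]
  exact h

theorem exists_adapted {r : ℕ} {E : (P).Modules} (hE : FlatMod.IsFinLocFreeOfRank r E) :
    ∃ d : Fin r → ℤ, Antitone d ∧ Adapted E d := by
  classical
  obtain ⟨f₀, h₀⟩ := exists_frame_affine hE (isAffineOpen_stdOpen 1 k (0 : Fin 2))
  obtain ⟨f₁, h₁⟩ := exists_frame_affine hE (isAffineOpen_stdOpen 1 k (1 : Fin 2))
  have hW₀ := h₀.res (inf_le_left : W ≤ U₀)
  have hW₁ := h₁.res (inf_le_right : W ≤ U₁)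
  let e₀ : Fin r → E.presheaf.stalk (gen 1 k) := fun a => γg (gen_mem 1 k) (f₀ a)
  let e₁ : Fin r → E.presheaf.stalk (gen 1 k) := fun a => γg (gen_mem 1 k) (f₁ a)
  -- the transition matrices
  choose c hc using fun a => hW₀.bijective.2 (E.presheaf.map (homOfLE (inf_le_right : W ≤ U₁)).op (f₁ a))
  choose c' hc' using fun a => hW₁.bijective.2 (E.presheaf.map (homOfLE (inf_le_left : W ≤ U₀)).op (f₀ a))
  choose A hA using fun a b => exists_lam_eq (c a b)
  choose A' hA' using fun a b => exists_lam_eq (c' a b)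
  have hAe : ∀ a, e₁ a = ∑ b, lam (A a b) • e₀ b := fun a => by
    have h := congrArg (γg gen_mem_W) (hc a)
    rw [Fintype.linearCombination_apply, linComb_germ] at h
    simp only [γg, TopCat.Presheaf.germ_res_apply, hA] at h
    exact h.symm
  have hAe' : ∀ a, e₀ a = ∑ b, lam (A' a b) • e₁ b := fun a => by
    have h := congrArg (γg gen_mem_W) (hc' a)
    rw [Fintype.linearCombination_apply, linComb_germ] at h
    simp only [γg, TopCat.Presheaf.germ_res_apply, hA'] at h
    exact h.symm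
  have hmul : ∀ (M N : Matrix (Fin r) (Fin r) k[T;T⁻¹]) (u v w : Fin r → E.presheaf.stalk (gen 1 k)),
      (∀ a, u a = ∑ b, lam (M a b) • v b) → (∀ a, v a = ∑ b, lam (N a b) • w b) →
        ∀ a, u a = ∑ b, lam ((M * N) a b) • w b := fun M N u v w hu hv a => by
    rw [hu a]
    simp only [hv, Finset.smul_sum, smul_smul]
    rw [Finset.sum_comm]
    exact Finset.sum_congr rfl fun b _ => by simp [Matrix.mul_apply, Finset.sum_smul]
  let AM : Matrix (Fin r) (Fin r) k[T;T⁻¹] := Matrix.of A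
  let AM' : Matrix (Fin r) (Fin r) k[T;T⁻¹] := Matrix.of A'
  have hAA : AM * AM' = 1 := by
    refine Matrix.ext fun a b => ?_
    refine lam_injective (congrFun (coeff_eq h₁ (hU := gen_mem 1 k) (x := fun b => lam ((AM * AM') a b))
      (y := fun b => lam ((1 : Matrix (Fin r) (Fin r) k[T;T⁻¹]) a b)) ?_) b)
    refine (hmul AM AM' e₁ e₀ e₁ hAe hAe' a).symm.trans ?_
    rw [Finset.sum_eq_single a]
    · simp [e₁]
    · intro b _ hb
      simp [Matrix.one_apply_ne (Ne.symm hb)]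
    · exact fun h' => absurd (Finset.mem_univ a) h'
  have hAu : IsUnit AM.transpose := by
    refine (Matrix.isUnit_transpose _).2 ((Matrix.isUnit_iff_isUnit_det _).2 (IsUnit.of_mul_eq_one AM'.det ?_))
    rw [← Matrix.det_mul, hAA, Matrix.det_one]
  obtain ⟨Pm, Qm, d, hP, hQ, hd, hfac⟩ := BirkhoffFact.exists_factor r AM.transpose hAu
  obtain ⟨R, hR'⟩ : ∃ R, R * Qm.transpose = 1 := ((Matrix.isUnit_transpose _).2 hQ).exists_left_inv
  have hRu : IsUnit R := by
    refine (Matrix.isUnit_iff_isUnit_det _).2 (IsUnit.of_mul_eq_one Qm.transpose.det ?_)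
    rw [← Matrix.det_mul, hR', Matrix.det_one]
  let M₀ : Matrix (Fin r) (Fin r) Γ(P, U₀) := Pm.transpose.map (secP 0)
  let M₁ : Matrix (Fin r) (Fin r) Γ(P, U₁) := R.map (secP 1)
  have hM₀ : IsUnit M₀ := ((Matrix.isUnit_transpose _).2 hP).map (secP (k := k) 0).mapMatrix
  have hM₁ : IsUnit M₁ := hRu.map (secP (k := k) 1).mapMatrix
  refine ⟨d, hd, fun a => ∑ b, M₀ a b • f₀ b, fun a => ∑ b, M₁ a b • f₁ b, IsFrame.change h₀ hM₀, IsFrame.change h₁ hM₁, fun a => ?_⟩
  have key : R.map (chart1 (A := k)) * AM =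
      Matrix.diagonal (fun i => LaurentPolynomial.T (d i)) * (Pm.map chart0).transpose := by
    have h := congrArg Matrix.transpose hfac
    rw [Matrix.transpose_transpose, Matrix.transpose_mul, Matrix.transpose_mul, Matrix.diagonal_transpose] at h
    rw [h, ← Matrix.mul_assoc, ← Matrix.transpose_map, ← RingHom.mapMatrix_apply, ← RingHom.mapMatrix_apply,
      ← map_mul, hR', map_one, Matrix.one_mul]
  have hl : γg (gen_mem 1 k) (∑ b, M₁ a b • f₁ b) = ∑ b, lam ((R.map (chart1 (A := k)) * AM) a b) • e₀ b := by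
    rw [linComb_germ]
    refine Eq.trans ?_ (hmul (R.map chart1) AM (fun a => ∑ b, lam (R.map (chart1 (A := k)) a b) • e₁ b) e₁ e₀ (fun _ => rfl) hAe a)
    exact Finset.sum_congr rfl fun b _ => by rw [Matrix.map_apply, lam_chart1]; rfl
  rw [hl, key, linComb_germ, Finset.smul_sum]
  refine Finset.sum_congr rfl fun b _ => ?_
  rw [Matrix.diagonal_mul, map_mul, lam_T, smul_smul]
  congr 1
  rw [Matrix.transpose_apply, Matrix.map_apply, lam_chart0]
  rfl

theorem le_of_adapted {r : ℕ} {E : (P).Modules} {d e : Fin r → ℤ} (hd : Antitone d) (he : Antitone e)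
    (h : Adapted E d) (h' : Adapted E e) : e ≤ d := by
  classical
  obtain ⟨f₀, f₁, h₀, h₁, hf⟩ := h
  obtain ⟨g₀, g₁, hg₀, hg₁, hg⟩ := h'
  choose c hc using fun a => h₀.bijective.2 (g₀ a)
  choose q hq using fun a => h₁.bijective.2 (g₁ a)
  choose p hp using fun a b => secP_surjective 0 (c a b)
  choose s hs using fun a b => secP_surjective 1 (q a b)
  have hp0 : ∀ a, γg (gen_mem 1 k) (g₀ a) = ∑ b, φp 0 (p a b) • γg (gen_mem 1 k) (f₀ b) := fun a => by
    rw [← hc a, Fintype.linearCombination_apply, linComb_germ]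
    exact Finset.sum_congr rfl fun b _ => by rw [← hp a b]; rfl
  have hp1 : ∀ a, γg (gen_mem 1 k) (g₁ a) = ∑ b, φp 1 (s a b) • γg (gen_mem 1 k) (f₁ b) := fun a => by
    rw [← hq a, Fintype.linearCombination_apply, linComb_germ]
    exact Finset.sum_congr rfl fun b _ => by rw [← hs a b]; rfl
  have hzero : ∀ a b, d b < e a → p a b = 0 := fun a b hab => by
    refine eq_zero_of_φp_eq (p a b) (s a b) hab ?_
    refine congrFun (coeff_eq h₀ (hU := gen_mem 1 k) (x := fun b => t 1 k 0 1 ^ e a * φp 0 (p a b))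
      (y := fun b => φp 1 (s a b) * t 1 k 0 1 ^ d b) ?_) b
    simp only [mul_smul, ← Finset.smul_sum, ← hp0, ← hf, ← hp1]
    exact (hg a).symm
  intro m
  by_contra hm
  rw [not_le] at hm
  let M : Matrix (Fin r) (Fin r) (P).functionField := Matrix.of fun a b => φp 0 (p a b)
  have hdet : M.det = 0 := by
    rw [Matrix.det_apply]
    refine Finset.sum_eq_zero fun σ _ => ?_
    obtain ⟨i, hi1, hi2⟩ : ∃ i, m ≤ i ∧ σ i ≤ m := by
      by_contra hcon
      push Not at hcon
      have hsub : (Finset.Ici m).map σ.toEmbedding ⊆ Finset.Ioi m := fun x hx => by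
        obtain ⟨i, hi, rfl⟩ := Finset.mem_map.1 hx
        exact Finset.mem_Ioi.2 (hcon i (Finset.mem_Ici.1 hi))
      have := Finset.card_le_card hsub
      rw [Finset.card_map, Fin.card_Ici, Fin.card_Ioi] at this
      omega
    rw [Finset.prod_eq_zero (Finset.mem_univ i), smul_zero]
    show φp 0 (p (σ i) i) = 0
    rw [hzero (σ i) i (lt_of_le_of_lt (hd hi1) (lt_of_lt_of_le hm (he hi2))), map_zero]
  obtain ⟨v, hv, hvM⟩ := Matrix.exists_vecMul_eq_zero_iff.2 hdet
  refine hv ((hg₀ (gen 1 k) (gen_mem 1 k)).1 ?_)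
  rw [map_zero, Fintype.linearCombination_apply]
  show ∑ a, v a • γg (gen_mem 1 k) (g₀ a) = 0
  simp only [hp0, Finset.smul_sum, smul_smul]
  rw [Finset.sum_comm]
  refine Finset.sum_eq_zero fun b _ => ?_
  rw [← Finset.sum_smul]
  exact (congrArg (· • γg (gen_mem 1 k) (f₀ b)) (congrFun hvM b)).trans (zero_smul _ _)

theorem nonempty_iso_of_adapted {r : ℕ} {E F : (P).Modules} {d : Fin r → ℤ} (h : Adapted E d) (h' : Adapted F d) :
    Nonempty (E ≅ F) := by
  classical
  obtain ⟨f₀, f₁, h₀, h₁, hf⟩ := h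
  obtain ⟨g₀, g₁, hg₀, hg₁, hg⟩ := h'
  haveI : Nonempty (W : (P).Opens) := ⟨⟨gen 1 k, gen_mem_W⟩⟩
  have hu : IsUnit ((P).presheaf.map (homOfLE (inf_le_left : W ≤ U₀)).op (coordRatio 1 k 0 1)) := by
    have hle : W ≤ (P).basicOpen (coordRatio 1 k (0 : Fin 2) 1) := (basicOpen_coordRatio 1 k (0 : Fin 2) 1).ge
    rw [show (P).presheaf.map (homOfLE (inf_le_left : W ≤ U₀)).op =
      (P).presheaf.map (homOfLE ((P).basicOpen_le (coordRatio 1 k (0 : Fin 2) 1))).op ≫ (P).presheaf.map (homOfLE hle).op by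
        rw [← Functor.map_comp]; rfl]
    exact ((P).toRingedSpace.isUnit_res_basicOpen (coordRatio 1 k (0 : Fin 2) 1)).map ((P).presheaf.map (homOfLE hle).op).hom
  obtain ⟨v, hv⟩ := hu
  let ev : Fin r → Γ(P, W) := fun a => ((v ^ d a : (Γ(P, W))ˣ) : Γ(P, W))
  have hev : ∀ a, (P).presheaf.germ W (gen 1 k) gen_mem_W (ev a) = t 1 k 0 1 ^ d a := fun a => by
    show ((Units.map ((P).presheaf.germ W (gen 1 k) gen_mem_W).hom.toMonoidHom (v ^ d a)) : (P).functionField) = _
    rw [map_zpow, Units.val_zpow_eq_zpow_val]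
    congr 1
    show (P).presheaf.germ W (gen 1 k) gen_mem_W (v : Γ(P, W)) = _
    rw [hv, TopCat.Presheaf.germ_res_apply]
    rfl
  have main : ∀ {G : (P).Modules} (u₀ : Fin r → Γ(G, U₀)) (u₁ : Fin r → Γ(G, U₁)), IsFrame U₀ u₀ →
      (∀ a, γg (gen_mem 1 k) (u₁ a) = t 1 k 0 1 ^ d a • γg (gen_mem 1 k) (u₀ a)) →
      ∀ (y : P) (hy : y ∈ W) (a : Fin r), G.presheaf.germ U₁ y hy.2 (u₁ a) =
        ∑ b, (if a = b then (P).presheaf.germ W y hy (ev a) else 0) • G.presheaf.germ U₀ y hy.1 (u₀ b) := by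
    intro G u₀ u₁ hu₀ hu₁ y hy a
    have hWf := hu₀.res (inf_le_left : W ≤ U₀)
    obtain ⟨z, hz⟩ := hWf.bijective.2 (G.presheaf.map (homOfLE (inf_le_right : W ≤ U₁)).op (u₁ a))
    have hz' : z = fun b => if a = b then ev a else 0 := by
      have h1 := congrArg (γg gen_mem_W) hz
      rw [Fintype.linearCombination_apply, linComb_germ] at h1
      simp only [γg, TopCat.Presheaf.germ_res_apply] at h1
      have h2 := hu₁ a
      simp only [γg] at h2
      rw [h2] at h1
      have h3 := coeff_eq hu₀ (hU := gen_mem 1 k) (x := fun b => (P).presheaf.germ W (gen 1 k) gen_mem_W (z b))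
        (y := fun b => if a = b then t 1 k 0 1 ^ d a else 0) (h1.trans (by simp [γg]))
      funext b
      refine (P).germToFunctionField_injective W ?_
      refine (congrFun h3 b).trans ?_
      split_ifs
      · exact (hev a).symm
      · exact (map_zero _).symm
    rw [← G.presheaf.germ_res_apply (homOfLE (inf_le_right : W ≤ U₁)) y hy (u₁ a), ← hz,
      Fintype.linearCombination_apply, germ_lincomb, hz']
    refine Finset.sum_congr rfl fun b _ => ?_
    rw [G.presheaf.germ_res_apply]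
    congr 1
    dsimp only
    split_ifs
    · rfl
    · exact map_zero _
  let U : ULift.{u} (Fin 2) → (P).Opens := fun i => stdOpen 1 k i.down
  let f : ∀ i : ULift.{u} (Fin 2), Fin r → Γ(E, U i) := fun i =>
    Fin.cases (motive := fun j => Fin r → Γ(E, stdOpen 1 k j)) f₀ (fun j => by
      obtain rfl : j = 0 := Subsingleton.elim j 0
      exact f₁) i.down
  let g : ∀ i : ULift.{u} (Fin 2), Fin r → Γ(F, U i) := fun i =>
    Fin.cases (motive := fun j => Fin r → Γ(F, stdOpen 1 k j)) g₀ (fun j => by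
      obtain rfl : j = 0 := Subsingleton.elim j 0
      exact g₁) i.down
  refine nonempty_iso_of_frames U ?_ f g ?_ ?_ ?_
  · refine eq_top_iff.2 ((iSup_stdOpen 1 k).ge.trans (iSup_le fun a => ?_))
    exact le_iSup U ⟨a⟩
  · intro ⟨i⟩
    fin_cases i
    · exact h₀
    · exact h₁
  · intro ⟨i⟩
    fin_cases i
    · exact hg₀
    · exact hg₁
  · intro ⟨i⟩ ⟨j⟩ y hi hj
    fin_cases i <;> fin_cases j
    · exact Or.inl ⟨1, fun a => by simp [Matrix.one_apply], fun a => by simp [Matrix.one_apply]⟩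
    · exact Or.inr ⟨Matrix.of fun a b => if a = b then (P).presheaf.germ W y ⟨hi, hj⟩ (ev a) else 0,
        main f₀ f₁ h₀ hf y ⟨hi, hj⟩, main g₀ g₁ hg₀ hg y ⟨hi, hj⟩⟩
    · exact Or.inl ⟨Matrix.of fun a b => if a = b then (P).presheaf.germ W y ⟨hj, hi⟩ (ev a) else 0,
        main f₀ f₁ h₀ hf y ⟨hj, hi⟩, main g₀ g₁ hg₀ hg y ⟨hj, hi⟩⟩
    · exact Or.inl ⟨1, fun a => by simp [Matrix.one_apply], fun a => by simp [Matrix.one_apply]⟩

end Groth.Agent.SplitP1Lib
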