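import Groth.Agent.DegDevLib.Frame
import Groth.Agent.EtAlgEasy.PrinPartStalkMod
import Groth.Agent.FlatLocus.ModInjFlat
import Groth.Agent.FreeFiniteLib.Basic
import Groth.Agent.ParaFLib.ExtendMain
import Mathlib.LinearAlgebra.Dimension.Free
import Mathlib.RingTheory.Finiteness.Projective
/-!
Frames: changes, direct sums, existence over affines with principal coordinate ring, comparison.
-/

set_option autoImplicit false
set_option backward.isDefEq.respectTransparency false
set_option linter.style.haveILetI false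

universe u

open CategoryTheory CategoryTheory.Limits AlgebraicGeometry TopologicalSpace
open Groth.Agent.PullbackMod Groth.Agent.DCohLib Groth.Agent.ParaFLib

noncomputable section

namespace Groth.Agent.SplitP1Lib

open DegDevLib (IsFrame)

variable {X : Scheme.{u}}

theorem germ_lincomb {n : ℕ} {E : X.Modules} {U : X.Opens} {y : X} (hy : y ∈ U) (c : Fin n → Γ(X, U))
    (f : Fin n → Γ(E, U)) :
    E.presheaf.germ U y hy (∑ b, c b • f b) = ∑ b, X.presheaf.germ U y hy (c b) • E.presheaf.germ U y hy (f b) := by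
  rw [map_sum]
  exact Finset.sum_congr rfl fun b _ => PresheafOfModules.germ_smul (R := X.presheaf) E.val y U hy _ _

/-- An invertible change of frame. -/
theorem IsFrame.change {n : ℕ} {E : X.Modules} {U : X.Opens} {f : Fin n → Γ(E, U)} (hf : IsFrame U f)
    {M : Matrix (Fin n) (Fin n) Γ(X, U)} (hM : IsUnit M) :
    IsFrame (E := E) U fun a => ∑ b, M a b • f b := fun y hy => by
  classical
  let g := (X.presheaf.germ U y hy).hom
  have hMy : IsUnit (g.mapMatrix M) := hM.map g.mapMatrix
  have e : ⇑(Fintype.linearCombination (X.presheaf.stalk y) fun a => E.presheaf.germ U y hy (∑ b, M a b • f b)) =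
      ⇑(Fintype.linearCombination (X.presheaf.stalk y) fun b => E.presheaf.germ U y hy (f b)) ∘
        fun r => Matrix.vecMul r (g.mapMatrix M) := by
    funext r
    simp only [Function.comp_apply, Fintype.linearCombination_apply, germ_lincomb, Finset.smul_sum, smul_smul,
      Matrix.vecMul, dotProduct, Finset.sum_smul]
    rw [Finset.sum_comm]
    rfl
  rw [e]
  exact (hf y hy).comp ⟨Matrix.vecMul_injective_of_isUnit hMy, Matrix.vecMul_surjective_iff_isUnit.2 hMy⟩

/-- A frame of a direct sum of modules with generators. -/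
theorem isFrame_sigma {n : ℕ} (L : Fin n → X.Modules) {U : X.Opens} (g : ∀ a, Γ(L a, U)) (hg : ∀ a, Gen U (g a)) :
    IsFrame (E := ∐ L) U fun a => (Sigma.ι L a).app U (g a) := fun y hy => by
  classical
  let p : ∀ a, (∐ L) ⟶ L a := fun a => Sigma.desc (Pi.single (M := fun i => L i ⟶ L a) a (𝟙 (L a)))
  have hp : ∀ a b, Sigma.ι L b ≫ p a = Pi.single (M := fun i => L i ⟶ L a) a (𝟙 (L a)) b :=
    fun a b => Sigma.ι_desc _ _
  have hgerm : ∀ a, (∐ L).presheaf.germ U y hy ((Sigma.ι L a).app U (g a)) =
      stalkLin (Sigma.ι L a) y ((L a).presheaf.germ U y hy (g a)) := fun a =>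
    (stalkLin_germ (Sigma.ι L a) y hy (g a)).symm
  have hpg : ∀ a b, stalkLin (p a) y ((∐ L).presheaf.germ U y hy ((Sigma.ι L b).app U (g b))) =
      stalkLin (Pi.single (M := fun i => L i ⟶ L a) a (𝟙 (L a)) b) y ((L b).presheaf.germ U y hy (g b)) := fun a b => by
    rw [hgerm, ← LinearMap.comp_apply, ← stalkLin_comp, hp]
  constructor
  · rw [injective_iff_map_eq_zero]
    intro r hr
    funext a
    have h := congrArg (stalkLin (p a) y) hr
    rw [Fintype.linearCombination_apply, map_sum, map_zero, Finset.sum_eq_single a] at h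
    · rw [map_smul, hpg, Pi.single_eq_same, DegDevLib.stdGerm_bijective.stalkLin_id] at h
      exact ((hg a).bijective_germ y hy).1 (h.trans (zero_smul _ _).symm)
    · intro b _ hb
      rw [map_smul, hpg, Pi.single_eq_of_ne hb, DegDevLib.stdGerm_bijective.stalkLin_zero_apply, smul_zero]
    · exact fun h' => absurd (Finset.mem_univ a) h'
  · intro z
    have hid : 𝟙 (∐ L) = ∑ a, p a ≫ Sigma.ι L a :=
      Sigma.hom_ext _ _ fun b => by
        rw [Category.comp_id, Preadditive.comp_sum, Finset.sum_eq_single b]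
        · rw [← Category.assoc, hp, Pi.single_eq_same, Category.id_comp]
        · intro a _ ha
          rw [← Category.assoc, hp, Pi.single_eq_of_ne (Ne.symm ha), zero_comp]
        · exact fun h' => absurd (Finset.mem_univ b) h'
    choose r hr using fun a => ((hg a).bijective_germ y hy).2 (stalkLin (p a) y z)
    refine ⟨r, ?_⟩
    rw [Fintype.linearCombination_apply]
    conv_rhs => rw [← DegDevLib.stdGerm_bijective.stalkLin_id y (∐ L) z, hid, DegDevLib.stdGerm_bijective.stalkLin_sum_apply]
    refine Finset.sum_congr rfl fun a _ => ?_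
    rw [stalkLin_comp, LinearMap.comp_apply, ← hr a, map_smul, hgerm]

/-- Frames are transported by isomorphisms. -/
theorem IsFrame.of_iso {n : ℕ} {E F : X.Modules} {U : X.Opens} {f : Fin n → Γ(E, U)} (hf : IsFrame U f)
    (φ : E ≅ F) : IsFrame (E := F) U fun a => φ.hom.app U (f a) := fun y hy => by
  have e : ⇑(Fintype.linearCombination (X.presheaf.stalk y) fun a => F.presheaf.germ U y hy (φ.hom.app U (f a))) =
      ⇑(stalkLin φ.hom y) ∘ ⇑(Fintype.linearCombination (X.presheaf.stalk y) fun a => E.presheaf.germ U y hy (f a)) := by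
    funext r
    simp only [Function.comp_apply, Fintype.linearCombination_apply, map_sum, map_smul, stalkLin_germ]
  rw [e]
  exact ((PullbackMod.isIso_iff_stalk φ.hom).1 inferInstance y).comp (hf y hy)

/-- A locally free module of rank `r` has a frame on an affine open with principal coordinate ring. -/
theorem exists_frame_affine {r : ℕ} {E : X.Modules} (hE : FlatMod.IsFinLocFreeOfRank r E)
    {W : X.Opens} (hW : IsAffineOpen W) [IsDomain Γ(X, W)] [IsPrincipalIdealRing Γ(X, W)] :
    ∃ f : Fin r → Γ(E, W), IsFrame W f := by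
  classical
  have hE' : FlatMod.IsFinLocFree E := fun x => by
    obtain ⟨U, hxU, h⟩ := hE x
    exact ⟨U, r, hxU, h⟩
  haveI := (PullbackMod.isQCoh_and_isFP_of_isFinLocFree E hE').1
  haveI := QCohLib.finitePresentation_sections E (PullbackMod.isQCoh_and_isFP_of_isFinLocFree E hE').2 hW
  haveI : Module.Flat Γ(X, W) Γ(E, W) := PullbackMod.flat_sections_of_flat_stalks E hW fun x => by
    obtain ⟨e⟩ := CurveLib.freeAt_of_isFinLocFreeOfRank hE x
    haveI := Module.Free.of_equiv e.symm
    infer_instance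
  haveI : Module.Projective Γ(X, W) Γ(E, W) := Module.Flat.projective_of_finitePresentation
  haveI : Module.Free Γ(X, W) Γ(E, W) := Module.free_of_finite_type_torsion_free'
  let b₀ := Module.Free.chooseBasis Γ(X, W) Γ(E, W)
  let N := Fintype.card (Module.Free.ChooseBasisIndex Γ(X, W) Γ(E, W))
  let b : Module.Basis (Fin N) Γ(X, W) Γ(E, W) := b₀.reindex (Fintype.equivFin _)
  have hbij : ∀ (y : X) (hy : y ∈ W), Function.Bijective
      (Fintype.linearCombination (X.presheaf.stalk y) fun a => E.presheaf.germ W y hy (b a)) := fun y hy => by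
    letI := Module.compHom (E.presheaf.stalk y) (X.presheaf.germ W y hy).hom
    letI : Algebra Γ(X, W) (X.presheaf.stalk y) := (X.presheaf.germ W y hy).hom.toAlgebra
    haveI : IsScalarTower Γ(X, W) (X.presheaf.stalk y) (E.presheaf.stalk y) := .of_algebraMap_smul fun _ _ => rfl
    haveI : IsLocalization.AtPrime (X.presheaf.stalk y) (hW.primeIdealOf ⟨y, hy⟩).asIdeal := hW.isLocalization_stalk ⟨y, hy⟩
    haveI := FlatLocus.isLocalizedModule_germL E hW y hy
    let b' := b.ofIsLocalizedModule (X.presheaf.stalk y) (hW.primeIdealOf ⟨y, hy⟩).asIdeal.primeCompl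
      (FlatLocus.germL E W y hy)
    have e : ⇑(Fintype.linearCombination (X.presheaf.stalk y) fun a => E.presheaf.germ W y hy (b a)) = ⇑b'.equivFun.symm := by
      funext c
      rw [Fintype.linearCombination_apply, b'.equivFun_symm_apply]
      refine Finset.sum_congr rfl fun a _ => congrArg (c a • ·) ?_
      rw [show b' a = _ from Module.Basis.ofIsLocalizedModule_apply _ _ _ b a]
      rfl
    rw [e]
    exact b'.equivFun.symm.bijective
  rcases (W : Set X).eq_empty_or_nonempty with he | ⟨y, hy⟩
  · exact ⟨fun _ => 0, fun y hy => absurd (show y ∈ (W : Set X) from hy) (by rw [he]; exact Set.notMem_empty y)⟩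
  obtain rfl : N = r := by
    obtain ⟨e⟩ := CurveLib.freeAt_of_isFinLocFreeOfRank hE y
    simpa using ((LinearEquiv.ofBijective _ (hbij y hy)).trans e).finrank_eq
  exact ⟨fun a => b a, hbij⟩

/-- Modules with frames having the same transition matrices are isomorphic. -/
theorem nonempty_iso_of_frames {n : ℕ} {ι : Type u} {M G : X.Modules} (U : ι → X.Opens) (hU : ⨆ i, U i = ⊤)
    (f : ∀ i, Fin n → Γ(M, U i)) (g : ∀ i, Fin n → Γ(G, U i)) (hf : ∀ i, IsFrame (U i) (f i))
    (hg : ∀ i, IsFrame (U i) (g i))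
    (h : ∀ i j (y : X) (hi : y ∈ U i) (hj : y ∈ U j),
      (∃ A : Matrix (Fin n) (Fin n) (X.presheaf.stalk y),
        (∀ a, M.presheaf.germ (U i) y hi (f i a) = ∑ b, A a b • M.presheaf.germ (U j) y hj (f j b)) ∧
        ∀ a, G.presheaf.germ (U i) y hi (g i a) = ∑ b, A a b • G.presheaf.germ (U j) y hj (g j b)) ∨
      (∃ A : Matrix (Fin n) (Fin n) (X.presheaf.stalk y),
        (∀ a, M.presheaf.germ (U j) y hj (f j a) = ∑ b, A a b • M.presheaf.germ (U i) y hi (f i b)) ∧
        ∀ a, G.presheaf.germ (U j) y hj (g j a) = ∑ b, A a b • G.presheaf.germ (U i) y hi (g i b))) :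
    Nonempty (M ≅ G) := by
  classical
  let S : ∀ i (y : X) (hy : y ∈ U i), (Fin n → X.presheaf.stalk y) ≃ₗ[X.presheaf.stalk y] M.presheaf.stalk y :=
    fun i y hy => LinearEquiv.ofBijective _ (hf i y hy)
  let T : ∀ i (y : X) (hy : y ∈ U i), (Fin n → X.presheaf.stalk y) ≃ₗ[X.presheaf.stalk y] G.presheaf.stalk y :=
    fun i y hy => LinearEquiv.ofBijective _ (hg i y hy)
  let ψ : ∀ i (y : X) (hy : y ∈ U i), M.presheaf.stalk y ≃ₗ[X.presheaf.stalk y] G.presheaf.stalk y :=
    fun i y hy => (S i y hy).symm ≪≫ₗ T i y hy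
  have hψ : ∀ i y hy (a : Fin n), ψ i y hy (M.presheaf.germ (U i) y hy (f i a)) = G.presheaf.germ (U i) y hy (g i a) := by
    intro i y hy a
    have hS : S i y hy (Pi.single a 1) = M.presheaf.germ (U i) y hy (f i a) := by
      simp [S, Fintype.linearCombination_apply_single]
    rw [← hS]
    simp [ψ, T, Fintype.linearCombination_apply_single]
  have hext : ∀ i y hy (u v : M.presheaf.stalk y →ₗ[X.presheaf.stalk y] G.presheaf.stalk y),
      (∀ a, u (M.presheaf.germ (U i) y hy (f i a)) = v (M.presheaf.germ (U i) y hy (f i a))) → u = v := by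
    intro i y hy u v huv
    refine LinearMap.ext fun z => ?_
    obtain ⟨c, rfl⟩ := (hf i y hy).2 z
    simp only [Fintype.linearCombination_apply, map_sum, map_smul, huv]
  have hagree : ∀ i j y (hi : y ∈ U i) (hj : y ∈ U j), (ψ i y hi).toLinearMap = (ψ j y hj).toLinearMap := by
    intro i j y hi hj
    rcases h i j y hi hj with ⟨A, hA, hA'⟩ | ⟨A, hA, hA'⟩
    · refine hext i y hi _ _ fun a => ?_
      simp only [LinearEquiv.coe_coe, hψ]
      rw [hA a, map_sum, hA' a]
      exact Finset.sum_congr rfl fun b _ => by rw [map_smul, hψ]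
    · refine hext j y hj _ _ fun a => ?_
      simp only [LinearEquiv.coe_coe, hψ]
      rw [hA a, map_sum, hA' a]
      exact Finset.sum_congr rfl fun b _ => by rw [map_smul, hψ]
  choose c hc using fun y => Opens.mem_iSup.1 (hU.ge (Opens.mem_top y))
  let φ : ∀ y, M.presheaf.stalk y →ₗ[X.presheaf.stalk y] G.presheaf.stalk y := fun y => (ψ (c y) y (hc y)).toLinearMap
  obtain ⟨u, hu⟩ := EtAlgEasy.PrinPartStalkMod.exists_hom_of_stalk φ fun V m x hx => by
    let i := c x
    obtain ⟨r, hr⟩ := ((hf i).res (inf_le_right : V ⊓ U i ≤ U i)).bijective.2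
      (M.presheaf.map (homOfLE (inf_le_left : V ⊓ U i ≤ V)).op m)
    refine ⟨V ⊓ U i, inf_le_left, ⟨hx, hc x⟩, ∑ a, r a • G.presheaf.map (homOfLE inf_le_right).op (g i a), fun y hy => ?_⟩
    rw [← M.presheaf.germ_res_apply (homOfLE (inf_le_left : V ⊓ U i ≤ V)) y hy m, ← hr,
      show φ y = (ψ i y hy.2).toLinearMap from hagree _ _ y (hc y) hy.2, Fintype.linearCombination_apply,
      germ_lincomb, germ_lincomb, map_sum]
    refine Finset.sum_congr rfl fun a _ => ?_
    rw [map_smul, M.presheaf.germ_res_apply, G.presheaf.germ_res_apply, LinearEquiv.coe_coe, hψ]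
  haveI : IsIso u := (PullbackMod.isIso_iff_stalk u).2 fun y => by
    have e : ⇑(stalkLin u y) = ⇑(φ y) := by
      funext z
      obtain ⟨V, hy, m, rfl⟩ := TopCat.Presheaf.exists_germ_eq M.presheaf z
      rw [stalkLin_germ]
      exact hu V m y hy
    rw [e]
    exact (ψ (c y) y (hc y)).bijective
  exact ⟨asIso u⟩

end Groth.Agent.SplitP1Lib
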